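import Groth.Agent.S14437
import Mathlib

/-! Generators of differentials of an algebra with geometric hypersurface singularities. -/

set_option autoImplicit false
set_option backward.isDefEq.respectTransparency false
set_option linter.style.haveILetI false

universe u

open TensorProduct

noncomputable section

namespace Groth.Agent.HypOmegaLib

variable {K : Type u} [Field K] {A : Type u} [CommRing A] [Algebra K A] [Algebra.FiniteType K A]

theorem isIntegral_rightAlgebra :
    letI : Algebra A (AlgebraicClosure K ⊗[K] A) := Algebra.TensorProduct.rightAlgebra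
    Algebra.IsIntegral A (AlgebraicClosure K ⊗[K] A) := by
  letI : Algebra A (AlgebraicClosure K ⊗[K] A) := Algebra.TensorProduct.rightAlgebra
  exact ⟨fun z => by
    induction z with
    | zero => exact isIntegral_zero
    | add p q hp hq => exact hp.add hq
    | tmul c a =>
      have h1 : IsIntegral A (c ⊗ₜ[K] (1 : A)) := by
        obtain ⟨P, hP, hPc⟩ := Algebra.IsIntegral.isIntegral (R := K) c
        refine ⟨P.map (algebraMap K A), hP.map _, ?_⟩
        rw [Polynomial.eval₂_map]
        have := congrArg (Algebra.TensorProduct.includeLeft : AlgebraicClosure K →ₐ[K] AlgebraicClosure K ⊗[K] A) hPc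
        rw [map_zero] at this
        refine Eq.trans ?_ this
        have e : (algebraMap A (AlgebraicClosure K ⊗[K] A)).comp (algebraMap K A) =
            ((Algebra.TensorProduct.includeLeft : AlgebraicClosure K →ₐ[K] AlgebraicClosure K ⊗[K] A) :
              AlgebraicClosure K →+* AlgebraicClosure K ⊗[K] A).comp (algebraMap K (AlgebraicClosure K)) :=
          RingHom.ext fun r => by
            show (1 : AlgebraicClosure K) ⊗ₜ[K] algebraMap K A r = algebraMap K (AlgebraicClosure K) r ⊗ₜ[K] 1
            rw [Algebra.algebraMap_eq_smul_one, Algebra.algebraMap_eq_smul_one, TensorProduct.smul_tmul]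
        rw [e]
        exact (Polynomial.hom_eval₂ P (algebraMap K (AlgebraicClosure K))
          ((Algebra.TensorProduct.includeLeft : AlgebraicClosure K →ₐ[K] AlgebraicClosure K ⊗[K] A) :
            AlgebraicClosure K →+* AlgebraicClosure K ⊗[K] A) c).symm
      have e2 : c ⊗ₜ[K] a = (c ⊗ₜ[K] (1 : A)) * algebraMap A (AlgebraicClosure K ⊗[K] A) a := by
        show _ = _ * ((1 : AlgebraicClosure K) ⊗ₜ[K] a)
        rw [Algebra.TensorProduct.tmul_mul_tmul, mul_one, one_mul]
      rw [e2]
      exact h1.mul isIntegral_algebraMap⟩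

theorem height_le_dim (q : Ideal (AlgebraicClosure K ⊗[K] A)) [q.IsPrime] (d : ℕ) (hd : ringKrullDim A = d) :
    q.height ≤ d := by
  letI : Algebra A (AlgebraicClosure K ⊗[K] A) := Algebra.TensorProduct.rightAlgebra
  haveI := isIntegral_rightAlgebra (K := K) (A := A)
  have h : ringKrullDim (AlgebraicClosure K ⊗[K] A) ≤ ringKrullDim A := by
    refine Order.krullDim_le_of_strictMono
      (fun p : PrimeSpectrum (AlgebraicClosure K ⊗[K] A) => PrimeSpectrum.comap (algebraMap A _) p) fun p q hpq => ?_
    obtain ⟨x, hxq, hxp⟩ := SetLike.exists_of_lt (show p.asIdeal < q.asIdeal from hpq)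
    exact Ideal.comap_lt_comap_of_integral_mem_sdiff hpq.le ⟨hxq, hxp⟩ (Algebra.IsIntegral.isIntegral x)
  have h2 := (Ideal.height_le_ringKrullDim_of_ne_top (I := q) (Ideal.IsPrime.ne_top inferInstance)).trans (h.trans hd.le)
  exact WithBot.coe_le_coe.mp h2

theorem exists_generators_kaehler (hhyp : ∀ (q : Ideal (AlgebraicClosure K ⊗[K] A)) [q.IsPrime],
      (Module.finrank (IsLocalRing.ResidueField (Localization.AtPrime q))
          (IsLocalRing.CotangentSpace (Localization.AtPrime q)) : ℕ∞) ≤ q.height + 1)
    (d : ℕ) (hd : ringKrullDim A = d) (p : Ideal A) [p.IsPrime] :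
    ∃ s : Finset (LocalizedModule p.primeCompl (KaehlerDifferential K A)),
      s.card ≤ d + 1 ∧ Submodule.span (Localization.AtPrime p) (s : Set (LocalizedModule p.primeCompl (KaehlerDifferential K A))) = ⊤ := by
  classical
  let kb := AlgebraicClosure K
  let T := kb ⊗[K] A
  letI : Algebra A T := Algebra.TensorProduct.rightAlgebra
  haveI : Algebra.FiniteType kb T := inferInstance
  haveI : IsNoetherianRing T := Algebra.FiniteType.isNoetherianRing kb T
  obtain ⟨m, hm, hpm⟩ := Ideal.exists_le_maximal p (Ideal.IsPrime.ne_top inferInstance)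
  haveI := hm
  haveI : Algebra.IsIntegral A T := isIntegral_rightAlgebra (K := K) (A := A)
  haveI : FaithfulSMul A T := (faithfulSMul_iff_algebraMap_injective A T).mpr
    (Algebra.TensorProduct.includeRight_injective (R := K) (A := kb) (B := A)
      (FaithfulSMul.algebraMap_injective K kb))
  obtain ⟨n, hn, hn'⟩ := Ideal.exists_maximal_ideal_liesOver_of_isIntegral (R := A) (S := T) m
  haveI := hn
  have hnm : n.comap (algebraMap A T) = m := hn'.over.symm
  let B := Localization.AtPrime n
  let κ := IsLocalRing.ResidueField B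
  haveI : IsNoetherianRing B := IsLocalization.isNoetherianRing n.primeCompl B inferInstance
  have hκ : Function.Bijective (algebraMap kb κ) := by
    haveI : Module.Finite kb (T ⧸ n) := by
      letI := Ideal.Quotient.field n
      exact finite_of_finite_type_of_isJacobsonRing kb (T ⧸ n)
    letI := Ideal.Quotient.field n
    have h1 : Function.Bijective (algebraMap kb (T ⧸ n)) := IsAlgClosed.algebraMap_bijective_of_isIntegral
    let e := IsLocalization.AtPrime.equivQuotMaximalIdeal n B
    have e1 : ∀ c, e (algebraMap kb (T ⧸ n) c) = algebraMap kb κ c := fun c => by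
      show e (Ideal.Quotient.mk n (algebraMap kb T c)) = _
      rw [IsLocalization.AtPrime.equivQuotMaximalIdeal_apply_mk]
      rfl
    rw [show (algebraMap kb κ : kb → κ) = e ∘ algebraMap kb (T ⧸ n) from funext fun c => (e1 c).symm]
    exact e.bijective.comp h1
  -- dimension of the fibre of the differentials
  haveI : IsScalarTower A T B := inferInstance
  haveI : Algebra.FormallyEtale T B := Algebra.FormallyEtale.of_isLocalization n.primeCompl
  haveI : Algebra.IsPushout K kb A T := inferInstance
  haveI : IsScalarTower A B κ := IsScalarTower.of_algebraMap_eq' rfl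
  let e : κ ⊗[A] Ω[A⁄K] ≃ₗ[κ] κ ⊗[B] Ω[B⁄kb] :=
    (TensorProduct.AlgebraTensorModule.cancelBaseChange A B κ κ (Ω[A⁄K])).symm ≪≫ₗ
      TensorProduct.AlgebraTensorModule.congr (.refl κ κ)
        ((TensorProduct.AlgebraTensorModule.cancelBaseChange A T B B (Ω[A⁄K])).symm ≪≫ₗ
          TensorProduct.AlgebraTensorModule.congr (.refl B B) (KaehlerDifferential.tensorKaehlerEquiv K kb A T) ≪≫ₗ
            KaehlerDifferential.tensorKaehlerEquivOfFormallyEtale kb T B)
  have hdim : Module.finrank κ (κ ⊗[A] Ω[A⁄K]) ≤ d + 1 := by
    rw [e.finrank_eq]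
    have hle : IsLocalRing.maximalIdeal kb ≤ Ideal.comap (IsScalarTower.toAlgHom kb kb B) (IsLocalRing.maximalIdeal B) := by
      rw [IsLocalRing.maximalIdeal_eq_bot]; exact bot_le
    have h := S14437.result kb kb B hle (by
      exact (IsLocalRing.ResidueField.algebraMap_eq kb).symm ▸
        ⟨(IsLocalRing.residue kb).injective, IsLocalRing.residue_surjective⟩) hκ
    let eκ := RingEquiv.ofBijective (algebraMap kb κ) hκ
    haveI : IsScalarTower kb κ (IsLocalRing.CotangentSpace B) := IsScalarTower.of_algebraMap_smul fun r v => by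
      show IsLocalRing.residue B (algebraMap kb B r) • v = _
      exact algebraMap_smul B r v
    have hfk : Module.finrank kb (IsLocalRing.CotangentSpace B) = Module.finrank κ (IsLocalRing.CotangentSpace B) := by
      rw [← Module.finrank_mul_finrank kb κ (IsLocalRing.CotangentSpace B)]
      have : Module.finrank kb κ = 1 := by
        rw [← (LinearEquiv.ofBijective (Algebra.linearMap kb κ) hκ).finrank_eq, Module.finrank_self]
      rw [this, one_mul]
    rw [hfk] at h
    have h2 := (hhyp n).trans (add_le_add_left (height_le_dim n d hd) 1)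
    have h3 : Module.finrank κ (IsLocalRing.CotangentSpace B) ≤ d + 1 := by exact_mod_cast h2
    exact le_trans ((Nat.le_add_right _ _).trans_eq h) h3
  -- choose generators
  let t : Set (κ ⊗[A] Ω[A⁄K]) := Set.range fun ω => (1 : κ) ⊗ₜ[A] ω
  obtain ⟨b, hbt, hbspan, hbli⟩ := exists_linearIndependent κ t
  haveI : Module.Finite κ (κ ⊗[A] Ω[A⁄K]) := inferInstance
  haveI : Finite b := hbli.finite
  haveI : Fintype b := Fintype.ofFinite b
  choose ω hω using fun x : b => hbt x.2
  let s₀ : Finset (Ω[A⁄K]) := Finset.univ.image ω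
  have hs₀ : s₀.card ≤ d + 1 := le_trans (Finset.card_image_le.trans hbli.fintype_card_le_finrank) hdim
  let Q := (Ω[A⁄K]) ⧸ Submodule.span A (s₀ : Set (Ω[A⁄K]))
  have hQ : Subsingleton (κ ⊗[A] Q) := by
    let f : κ ⊗[A] Ω[A⁄K] →ₗ[κ] κ ⊗[A] Q := (Submodule.mkQ _).baseChange κ
    have hf : Function.Surjective f := LinearMap.lTensor_surjective κ (Submodule.mkQ_surjective _)
    have h0 : f = 0 := by
      refine LinearMap.ext fun z => ?_
      induction z using TensorProduct.induction_on with
      | zero => simp
      | add p q hp hq => simp only [map_add, hp, hq]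
      | tmul c ω' =>
        rw [show c ⊗ₜ[A] ω' = c • ((1 : κ) ⊗ₜ[A] ω') by rw [TensorProduct.smul_tmul', smul_eq_mul, mul_one], map_smul,
          map_smul]
        refine congrArg (c • ·) ?_
        have hmem : ((1 : κ) ⊗ₜ[A] ω') ∈ Submodule.span κ b := by rw [hbspan]; exact Submodule.subset_span ⟨ω', rfl⟩
        refine LinearMap.mem_ker.mp (Submodule.span_le.mpr ?_ hmem)
        intro x hx
        have hx' : (1 : κ) ⊗ₜ[A] ω ⟨x, hx⟩ = x := hω ⟨x, hx⟩
        rw [SetLike.mem_coe, LinearMap.mem_ker, ← hx']
        show (1 : κ) ⊗ₜ[A] Submodule.mkQ _ (ω ⟨x, hx⟩) = 0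
        rw [Submodule.mkQ_apply, (Submodule.Quotient.mk_eq_zero _).mpr (Submodule.subset_span
          (Finset.mem_coe.mpr (Finset.mem_image_of_mem ω (Finset.mem_univ _)))), TensorProduct.tmul_zero]
    exact ⟨fun a b => by
      obtain ⟨a, rfl⟩ := hf a
      obtain ⟨b, rfl⟩ := hf b
      rw [h0]; rfl⟩
  haveI : Module.Finite A (Ω[A⁄K]) := inferInstance
  haveI : Module.Finite A Q := inferInstance
  have hm' : (⟨m, hm.isPrime⟩ : PrimeSpectrum A) ∉ Module.support A Q := by
    rw [Module.mem_support_iff_nontrivial_residueField_tensorProduct, not_nontrivial_iff_subsingleton]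
    letI : Algebra m.ResidueField κ := (Ideal.ResidueField.lift m (algebraMap A κ) (by
      rw [← hnm]
      intro a ha
      show IsLocalRing.residue B (algebraMap A B a) = 0
      rw [IsLocalRing.residue_eq_zero_iff]
      rw [IsScalarTower.algebraMap_apply A T B]
      exact (IsLocalization.AtPrime.to_map_mem_maximal_iff B n (algebraMap A T a)).mpr ha) (by
      intro a ha
      refine isUnit_iff_ne_zero.mpr fun h => ha ?_
      rw [← hnm]
      have h' : algebraMap A B a ∈ IsLocalRing.maximalIdeal B := (IsLocalRing.residue_eq_zero_iff _).mp h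
      rw [IsScalarTower.algebraMap_apply A T B] at h'
      exact (IsLocalization.AtPrime.to_map_mem_maximal_iff B n (algebraMap A T a)).mp h')).toAlgebra
    haveI : IsScalarTower A m.ResidueField κ := IsScalarTower.of_algebraMap_eq fun a =>
      (Ideal.ResidueField.lift_algebraMap _ _ _ _ _).symm
    haveI : Subsingleton (κ ⊗[m.ResidueField] (m.ResidueField ⊗[A] Q)) :=
      (TensorProduct.AlgebraTensorModule.cancelBaseChange A m.ResidueField κ κ Q).injective.subsingleton
    exact Module.FaithfullyFlat.lTensor_reflects_triviality m.ResidueField κ _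
  have hp : (⟨p, inferInstance⟩ : PrimeSpectrum A) ∉ Module.support A Q := fun h =>
    hm' (Module.mem_support_mono (p := ⟨p, inferInstance⟩) (q := ⟨m, hm.isPrime⟩) hpm h)
  rw [Module.notMem_support_iff] at hp
  refine ⟨s₀.image (LocalizedModule.mkLinearMap p.primeCompl _), Finset.card_image_le.trans hs₀, ?_⟩
  refine Submodule.eq_top_iff'.mpr fun x => ?_
  induction x using LocalizedModule.induction_on with
  | h m₀ r =>
    obtain ⟨c, hc⟩ := LocalizedModule.mk_eq.mp ((Subsingleton.elim
      (LocalizedModule.mk (Submodule.mkQ (Submodule.span A (s₀ : Set (Ω[A⁄K]))) m₀) (1 : p.primeCompl)) 0).trans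
        (LocalizedModule.zero_mk (1 : p.primeCompl)).symm)
    rw [smul_zero, smul_zero, one_smul] at hc
    rw [Submonoid.smul_def] at hc
    rw [← map_smul, Submodule.mkQ_apply, Submodule.Quotient.mk_eq_zero] at hc
    have h1 : LocalizedModule.mkLinearMap p.primeCompl _ ((c : A) • m₀) ∈
        Submodule.span (Localization.AtPrime p) ((s₀.image (LocalizedModule.mkLinearMap p.primeCompl _) :
          Finset (LocalizedModule p.primeCompl (Ω[A⁄K]))) : Set _) := by
      rw [Finset.coe_image]
      refine Submodule.span_subset_span A _ _ ?_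
      rw [← Submodule.map_span]
      exact Submodule.mem_map_of_mem hc
    have h2 : LocalizedModule.mk m₀ r = (Localization.mk 1 (c * r) : Localization.AtPrime p) •
        LocalizedModule.mkLinearMap p.primeCompl _ ((c : A) • m₀) := by
      rw [LocalizedModule.mkLinearMap_apply, LocalizedModule.mk_smul_mk, one_smul, mul_one, LocalizedModule.mk_eq]
      exact ⟨1, by simp only [mul_comm c r, Submonoid.smul_def, Submonoid.coe_mul, mul_smul, one_smul]⟩
    rw [h2]
    exact Submodule.smul_mem _ _ h1

end Groth.Agent.HypOmegaLib
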